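import Mathlib
import Cfsg.Prelude.Def_OddOrderLocal
import Cfsg.Agent.Lib.Helper50.BG.S1430Defs
import Cfsg.Agent.Lib.Helper50.BG.S1430Norm
import Cfsg.Agent.Lib.Helper67.BG.HallUtil
import Cfsg.Agent.Lib.Helper97.BG.Tau3Split
import Cfsg.Agent.Lib.Helper23.Compl
import Cfsg.Agent.Lib.Helper49.BG.PartnerTI

/-!
S1430, CASE II (`E₃` not regular on `M_σ`): clauses (1), (2), (3a), (3b) from the conclusion
of Bender–Glauberman 13.11 (`Hyp1311` of helper25's Defs): then `K = E`, `U = ⊥`.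
-/

set_option autoImplicit false

namespace Cfsg.Agent.Lib.Helper50.BG30

open Cfsg

universe u

/-- CASE II of S1430: clauses (1), (2), (3a), (3b), from the conclusion of `Hyp1311`. -/
theorem caseII_of {G : Type u} [Group G] [Finite G] (hG : Cfsg.IsMinSimpleOddOrder G)
    (hy : Hy hG) (M : Subgroup G) (hM : IsCoatom M) (K : Subgroup G)
    (hK : Cfsg.IsPiHallOf (Cfsg.kappa M) K M) (E : Subgroup G)
    (hE : Cfsg.IsComplIn E (Cfsg.sigmaCore M) M) (hKE : K ≤ E)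
    (r : ℕ) (hr : r ∈ Cfsg.tau3 M) (R : Subgroup G) (hRE : R ≤ E) (hRc : Nat.card R = r)
    (hRfix : Cfsg.sigmaCore M ⊓ Subgroup.centralizer (R : Set G) ≠ ⊥)
    (h11 : Cfsg.tau2 M = ∅ ∧
      (∀ x ∈ E, x ≠ 1 → Cfsg.sigmaCore M ⊓ Subgroup.centralizer ({x} : Set G) =
          Cfsg.sigmaCore M ⊓ Subgroup.centralizer (E : Set G)) ∧
      (∀ X : Subgroup G, X ≤ E → (Nat.card X).Prime →
        E ≤ Subgroup.normalizer (X : Set G))) :
    ConclAB M K := by
  obtain ⟨hτ2, hsemi, hnorm⟩ := h11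
  have hrp : r.Prime := hr.1
  have hR1 : R ≠ ⊥ := by
    intro h
    rw [h, Subgroup.card_bot] at hRc
    exact hrp.ne_one hRc.symm
  obtain ⟨⟨x, hxR⟩, hx1'⟩ := (Subgroup.ne_bot_iff_exists_ne_one).mp hR1
  have hx1 : x ≠ 1 := fun h => hx1' (Subtype.ext h)
  have hE1 : E ≠ ⊥ := by
    intro h
    have : x ∈ (⊥ : Subgroup G) := h ▸ hRE hxR
    exact hx1 (Subgroup.mem_bot.mp this)
  have hD : Cfsg.sigmaCore M ⊓ Subgroup.centralizer (E : Set G) ≠ ⊥ := by
    intro h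
    apply hRfix
    rw [eq_bot_iff, ← h, ← hsemi x (hRE hxR) hx1]
    exact inf_le_inf_left _ (Subgroup.centralizer_le (Set.singleton_subset_iff.mpr hxR))
  obtain ⟨⟨y, hy'⟩, hy1'⟩ := (Subgroup.ne_bot_iff_exists_ne_one).mp hD
  have hy1 : y ≠ 1 := fun h => hy1' (Subtype.ext h)
  obtain ⟨hyσ, hyC⟩ := Subgroup.mem_inf.mp hy'
  -- every prime dividing `|E|` lies in `κ(M)`
  have hEκ : ∀ q : ℕ, q.Prime → q ∣ Nat.card E → q ∈ Cfsg.kappa M := by
    intro q hq hdvd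
    have : Fact q.Prime := ⟨hq⟩
    have h3 := Cfsg.Agent.Lib.Helper97.BG.mem_tau_of_dvd_card_compl hG hy.h1404 hy.h1405 hM hE
      hq hdvd
    have hqσ1 : q ∉ Cfsg.sigma M ∧ Cfsg.PRankLE q 1 M := by
      rcases h3 with h | h | h
      · exact ⟨h.2.1, h.2.2.2.2⟩
      · rw [hτ2] at h
        exact absurd h (Set.notMem_empty q)
      · exact ⟨h.2.1, h.2.2.2⟩
    obtain ⟨z, hz⟩ := exists_prime_orderOf_dvd_card' q hdvd
    refine Cfsg.Agent.Lib.Helper67.BG.mem_kappa_of_rank_one hG.1 M q hqσ1.1 hqσ1.2 (z : G)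
      (hE.1 z.2) ?_ y hyσ hy1 ?_
    · rw [Subgroup.orderOf_coe]; exact hz
    · exact (Subgroup.mem_centralizer_iff.mp hyC) (z : G) z.2
  -- `K = E`
  have hKeq : K = E := by
    apply le_antisymm hKE
    have h1 : K.relIndex E = 1 := by
      by_contra hne
      obtain ⟨q, hq, hqd⟩ := Nat.exists_prime_and_dvd hne
      have hqE : q ∣ Nat.card E := hqd.trans (Subgroup.relIndex_dvd_card K E)
      have hqκ := hEκ q hq hqE
      have h2 : K.relIndex E ∣ K.relIndex M :=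
        Dvd.intro _ (Subgroup.relIndex_mul_relIndex K E M hKE hE.1)
      exact hK.2.2 q hq hqκ (hqd.trans h2)
    exact Subgroup.relIndex_eq_one.mp h1
  rw [hKeq]
  have hMS := Cfsg.Agent.Lib.Helper67.BG.sigmaCore_normalizer M
  have hcompl : Cfsg.IsComplIn (⊥ : Subgroup G) E E :=
    ⟨bot_le, le_rfl, bot_inf_eq _, fun e he => ⟨1, Subgroup.one_mem _, e, he, (one_mul e).symm⟩⟩
  have hbotN : E ≤ Subgroup.normalizer (((⊥ : Subgroup G) : Subgroup G) : Set G) := by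
    intro e _
    rw [Subgroup.mem_normalizer_iff]
    intro h
    simp only [Subgroup.mem_bot]
    constructor
    · intro hh; rw [hh]; group
    · intro hh
      have e1 : h = e⁻¹ * (e * h * e⁻¹) * e := by group
      rw [e1, hh]; group
  have hbotreg : ∀ k ∈ E, k ≠ 1 →
      (⊥ : Subgroup G) ⊓ Subgroup.centralizer ({k} : Set G) = ⊥ :=
    fun _ _ _ => bot_inf_eq _
  refine ⟨hsemi, ⟨⊥, ?_, ?_, hbotN, hbotreg⟩, ?_⟩
  · exact ⟨⟨fun a b => by
      have ha : a = 1 := Subtype.ext (Subgroup.mem_bot.mp a.2)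
      have hb : b = 1 := Subtype.ext (Subgroup.mem_bot.mp b.2)
      rw [ha, hb]⟩⟩
  · refine ⟨bot_le, ?_, ?_⟩
    · intro p hp hd
      rw [Subgroup.card_bot] at hd
      exact absurd (Nat.dvd_one.mp hd) hp.ne_one
    · intro p hp hpπ hd
      rw [Subgroup.relIndex_bot_left, Cfsg.Agent.Lib.Helper23.card_of_isComplIn hE] at hd
      rcases (Nat.Prime.dvd_mul hp).mp hd with h | h
      · exact hpπ.2.1 (hEκ p hp h)
      · exact hpπ.2.2 (Cfsg.Agent.Lib.Helper49.BG.sigmaCore_isPi' M p hp h)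
  · intro X hXE hXp
    have hX1 : X ≠ ⊥ := by
      intro h
      rw [h, Subgroup.card_bot] at hXp
      exact Nat.not_prime_one hXp
    exact ⟨norm_formula M (Cfsg.sigmaCore M) E ⊥ E hE hMS hcompl hbotN hbotreg hsemi X hXE hX1
        (hnorm X hXE hXp),
      norm_formula M (Cfsg.sigmaCore M) E ⊥ E hE hMS hcompl hbotN hbotreg hsemi E le_rfl hE1
        Subgroup.le_normalizer⟩

end Cfsg.Agent.Lib.Helper50.BG30
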