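import Mathlib
import Cfsg.Prelude.Def_OddOrderLocal
import Cfsg.Statements.S1350
import Cfsg.Statements.S1403
import Cfsg.Statements.S1404
import Cfsg.Statements.S1405
import Cfsg.Statements.S1408
import Cfsg.Statements.S1409
import Cfsg.Statements.S1414
import Cfsg.Statements.S1415
import Cfsg.Statements.S1417
import Cfsg.Statements.S1418
import Cfsg.Statements.S1419
import Cfsg.Statements.S1420
import Cfsg.Statements.S1422
import Cfsg.Statements.S1423
import Cfsg.Statements.S1424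
import Cfsg.Statements.S1425
import Cfsg.Statements.S1426
import Cfsg.Statements.S1427
import Cfsg.Statements.S1428
import Cfsg.Statements.S1430
import Cfsg.Agent.Lib.Helper25.BG.S1430Asm
import Cfsg.Agent.Lib.Helper15.BG.Tau12
import Cfsg.Agent.Lib.Helper35.BG30.OpenDFor
import Cfsg.Agent.Lib.Helper83.BG.SigmaPartition

/-!
S1430 (Bender–Glauberman 14.3 (a),(b)) from the earlier statements of the chain and the single
remaining black box `Hyp1311` (B&G 13.10/13.11): helper25's assembly `s1430_of`, helper15's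
`tau12_regular` (13.12), helper35's `hypOpenD` (clause (3c)) and helper83's sigma-partition
`sigma_disjoint_core` (13.9).
-/

set_option autoImplicit false

namespace Cfsg.Agent.Lib.Helper50.BG30

open Cfsg

universe u

theorem s1430_closed_of {G : Type u} [Group G] [Finite G] (hG : Cfsg.IsMinSimpleOddOrder G)
    (h1350 : type_of% (@Cfsg.CfsgFrozen.S1350 G _ _ hG))
    (h1403 : type_of% (@Cfsg.CfsgFrozen.S1403 G _ _ hG))
    (h1404 : type_of% (@Cfsg.CfsgFrozen.S1404 G _ _ hG))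
    (h1405 : type_of% (@Cfsg.CfsgFrozen.S1405 G _ _ hG))
    (h1408 : type_of% (@Cfsg.CfsgFrozen.S1408 G _ _ hG))
    (h1409 : type_of% (@Cfsg.CfsgFrozen.S1409 G _ _ hG))
    (h1414 : type_of% (@Cfsg.CfsgFrozen.S1414 G _ _ hG))
    (h1415 : type_of% (@Cfsg.CfsgFrozen.S1415 G _ _ hG))
    (h1417 : type_of% (@Cfsg.CfsgFrozen.S1417 G _ _ hG))
    (h1418 : type_of% (@Cfsg.CfsgFrozen.S1418 G _ _ hG))
    (h1419 : type_of% (@Cfsg.CfsgFrozen.S1419 G _ _ hG))
    (h1420 : type_of% (@Cfsg.CfsgFrozen.S1420 G _ _ hG))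
    (h1422 : type_of% (@Cfsg.CfsgFrozen.S1422 G _ _ hG))
    (h1423 : type_of% (@Cfsg.CfsgFrozen.S1423 G _ _ hG))
    (h1424 : type_of% (@Cfsg.CfsgFrozen.S1424 G _ _ hG))
    (h1425 : type_of% (@Cfsg.CfsgFrozen.S1425 G _ _ hG))
    (h1426 : type_of% (@Cfsg.CfsgFrozen.S1426 G _ _ hG))
    (h1427 : type_of% (@Cfsg.CfsgFrozen.S1427 G _ _ hG))
    (h1428 : type_of% (@Cfsg.CfsgFrozen.S1428 G _ _ hG))
    (h11 : Cfsg.Agent.Lib.Helper25.BG30.Hyp1311 G) :
    type_of% (@Cfsg.CfsgFrozen.S1430 G _ _ hG) := by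
  have h12 : Cfsg.Agent.Lib.Helper25.BG30.Hyp1312 G :=
    Cfsg.Agent.Lib.Helper15.BG.tau12_regular hG h1350 h1403 h1408 h1414 h1415 h1417 h1418 h1419
      h1422 h1423 h1426 h1427 h1428
  have hSig := Cfsg.Agent.Lib.Helper83.BG.sigma_disjoint_core hG h1350 h1403 h1404 h1405 h1408
    h1409 h1414 h1415 h1417 h1423 h1426 h1427 h1428
  have hD : Cfsg.Agent.Lib.Helper25.BG30.HypOpenD G :=
    Cfsg.Agent.Lib.Helper35.BG30.hypOpenD hG h1350 h1405 h1409 h1415 h1417 h1418 h1420 h1424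
      h1425 hSig h12
  exact Cfsg.Agent.Lib.Helper25.BG30.s1430_of hG h1350 h1405 h1415 h1418 h1420 h1427 h1428
    h11 h12 hD

end Cfsg.Agent.Lib.Helper50.BG30
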